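import Cfsg.Agent.HSOut.Stab
import Cfsg.Agent.Mathieu.Normalizer

/-!
The automorphisms of the group of even automorphisms of the standard graph are conjugations by
automorphisms of the graph.
-/

set_option autoImplicit false

open scoped Pointwise

namespace CfsgLib.HSOut

open Cfsg CfsgLib.Golay CfsgLib.Mathieu CfsgLib.DesignUnique CfsgLib.HSGraph

/-- The full automorphism group of the standard graph. -/
abbrev GraphAut := stdGraph ≃g stdGraph

/-- The size of the orbit of a vertex under the vertex stabiliser. -/
noncomputable def orbSize (y : Vert) : ℕ := (MulAction.orbit H0 y).ncard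

theorem exists_H0_point (a a' : Pt22) :
    ∃ h : H0, (h • (some (Sum.inl a) : Vert)) = some (Sum.inl a') := by
  obtain ⟨σ, hσ, h⟩ := inner_trans_point a a'
  refine ⟨innerToEven ⟨σ, hσ⟩, ?_⟩
  show (some (Sum.inl ((σ : Equiv.Perm Pt22) a)) : Vert) = _
  rw [h]

theorem exists_H0_block (b c : std22) :
    ∃ h : H0, (h • (some (Sum.inr b) : Vert)) = some (Sum.inr c) := by
  obtain ⟨σ, hσ, h⟩ := inner_trans_block b c
  refine ⟨innerToEven ⟨σ, hσ⟩, ?_⟩
  show (some (Sum.inr (blockPerm σ b)) : Vert) = _
  rw [h]

theorem H0_adj (h : H0) (y : Vert) :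
    stdGraph.Adj none (h • y) ↔ stdGraph.Adj none y := by
  have e := SimpleGraph.Iso.map_adj_iff ((h : evenAut) : GraphAut) (v := (none : Vert)) (w := y)
  rw [show ((h : evenAut) : GraphAut) none = (none : Vert) from h.2] at e
  exact e

theorem orbit_none : MulAction.orbit H0 (none : Vert) = {none} := by
  ext y
  constructor
  · rintro ⟨h, rfl⟩
    exact h.2
  · rintro rfl
    exact MulAction.mem_orbit_self _

theorem adj_iff_orbSize (y : Vert) : stdGraph.Adj none y ↔ orbSize y = 22 := by
  rcases y with _ | a | b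
  · refine iff_of_false stdGraph.irrefl ?_
    rw [orbSize, orbit_none, Set.ncard_singleton]
    norm_num
  · refine iff_of_true (adj_none_point a) ?_
    have : MulAction.orbit H0 (some (Sum.inl a) : Vert) =
        Set.range fun a' : Pt22 => (some (Sum.inl a') : Vert) := by
      ext y
      constructor
      · rintro ⟨h, rfl⟩
        have hadj : stdGraph.Adj none (h • (some (Sum.inl a) : Vert)) :=
          (H0_adj h _).2 (adj_none_point a)
        show h • (some (Sum.inl a) : Vert) ∈ _
        rcases hh : h • (some (Sum.inl a) : Vert) with _ | a' | b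
        · rw [hh] at hadj; exact absurd hadj stdGraph.irrefl
        · exact ⟨a', rfl⟩
        · rw [hh] at hadj; exact absurd hadj (not_adj_none_block b)
      · rintro ⟨a', rfl⟩
        exact exists_H0_point a a'
    rw [orbSize, this, ← Nat.card_coe_set_eq, Nat.card_range_of_injective (by
      intro x y h; simpa using h), Nat.card_eq_fintype_card, card_vert.1]
  · refine iff_of_false (not_adj_none_block b) ?_
    have hsub : Set.range (fun c : std22 => (some (Sum.inr c) : Vert)) ⊆
        MulAction.orbit H0 (some (Sum.inr b) : Vert) := by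
      rintro _ ⟨c, rfl⟩
      exact exists_H0_block b c
    have h77 := Set.ncard_le_ncard hsub (Set.toFinite _)
    rw [← Nat.card_coe_set_eq, Nat.card_range_of_injective (by
      intro x y h; simpa using h), Nat.card_coe_set_eq, ncard_std22] at h77
    rw [orbSize]
    omega

theorem eq_none_of_H0_fixed {y : Vert} (hy : ∀ h : H0, h • y = y) : y = none := by
  haveI : Fact (Nat.Prime 11) := ⟨by norm_num⟩
  obtain ⟨c, hc⟩ := exists_prime_orderOf_dvd_card' (G := H0) 11 (by rw [card_H0]; norm_num)
  exact fixed_eq_none hc (hy c)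

/-- An automorphism fixing the vertex stabiliser is a conjugation by a graph automorphism. -/
theorem exists_graphAut (φ : MulAut evenAut) (hφ : H0.map φ.toMonoidHom = H0) :
    ∃ k : GraphAut, ∀ g : evenAut, (φ g : GraphAut) = k * g * k⁻¹ := by
  classical
  letI : Fintype std22 := Fintype.ofFinite _
  have hH : ∀ g : evenAut, φ g ∈ H0 ↔ g ∈ H0 := fun g => by
    conv_lhs => rw [← hφ]
    exact Subgroup.mem_map_iff_mem φ.injective
  choose t ht using fun x : Vert => MulAction.exists_smul_eq evenAut (none : Vert) x
  let s : Vert → Vert := fun x => φ (t x) • (none : Vert)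
  have key : ∀ g : evenAut, s (g • (none : Vert)) = φ g • (none : Vert) := by
    intro g
    have hmem : g⁻¹ * t (g • (none : Vert)) ∈ H0 := by
      rw [MulAction.mem_stabilizer_iff, mul_smul, ht, inv_smul_smul]
    have h := (hH _).2 hmem
    rw [MulAction.mem_stabilizer_iff, map_mul, map_inv, mul_smul, inv_smul_eq_iff] at h
    exact h
  have hnone : s none = none := by
    have := key 1
    rwa [one_smul, map_one, one_smul] at this
  have hequiv : ∀ (g : evenAut) (x : Vert), s (g • x) = φ g • s x := by
    intro g x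
    conv_lhs => rw [← ht x, ← mul_smul, key, map_mul, mul_smul]
  have hinj : Function.Injective s := by
    intro x y h
    have hmem : φ ((t x)⁻¹ * t y) ∈ H0 := by
      rw [MulAction.mem_stabilizer_iff, map_mul, map_inv, mul_smul, inv_smul_eq_iff]
      exact h.symm
    have h' := (hH _).1 hmem
    rw [MulAction.mem_stabilizer_iff, mul_smul, inv_smul_eq_iff, ht, ht] at h'
    exact h'.symm
  have horb : ∀ y, orbSize (s y) = orbSize y := by
    intro y
    have : s '' MulAction.orbit H0 y = MulAction.orbit H0 (s y) := by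
      ext z
      constructor
      · rintro ⟨_, ⟨h, rfl⟩, rfl⟩
        refine ⟨⟨φ h, (hH _).2 h.2⟩, ?_⟩
        exact (hequiv h.1 y).symm
      · rintro ⟨h, rfl⟩
        obtain ⟨g, hg⟩ := φ.surjective h.1
        refine ⟨g • y, ⟨⟨g, (hH g).1 (hg ▸ h.2)⟩, rfl⟩, ?_⟩
        rw [hequiv, hg]
        rfl
    rw [orbSize, orbSize, ← this, Set.ncard_image_of_injective _ hinj]
  have hbij : Function.Bijective s := Finite.injective_iff_bijective.1 hinj
  have hadj : ∀ x y, stdGraph.Adj (s x) (s y) ↔ stdGraph.Adj x y := by
    intro x y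
    have h1 : ∀ (g : evenAut) (u w : Vert),
        stdGraph.Adj (g • u) (g • w) ↔ stdGraph.Adj u w := fun g u w =>
      ((g : GraphAut)).map_rel_iff'
    have e1 : s x = φ (t x) • (none : Vert) := rfl
    have e2 : s y = φ (t x) • s ((t x)⁻¹ • y) := by rw [← hequiv, smul_inv_smul]
    have h2 : stdGraph.Adj (s x) (s y) ↔ stdGraph.Adj none (s ((t x)⁻¹ • y)) := by
      rw [e2, e1, h1]
    have h3 : stdGraph.Adj x y ↔ stdGraph.Adj none ((t x)⁻¹ • y) := by
      rw [← h1 (t x) none ((t x)⁻¹ • y), ht, smul_inv_smul]
    rw [h2, h3, adj_iff_orbSize, adj_iff_orbSize, horb]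
  let k : GraphAut := ⟨Equiv.ofBijective s hbij, fun {x y} => hadj x y⟩
  refine ⟨k, fun g => ?_⟩
  rw [eq_mul_inv_iff_mul_eq]
  exact RelIso.ext fun x => (hequiv g x).symm

instance evenAut_normal : (evenAut : Subgroup GraphAut).Normal := MonoidHom.normal_ker _

/-- Conjugation by a graph automorphism. -/
noncomputable def graphConj : GraphAut →* MulAut evenAut := MulAut.conjNormal

theorem graphConj_apply (k : GraphAut) (g : evenAut) :
    (graphConj k g : GraphAut) = k * g * k⁻¹ := MulAut.conjNormal_apply k g

theorem graphConj_injective : Function.Injective graphConj := by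
  refine (injective_iff_map_eq_one _).2 fun k hk => ?_
  have hcomm : ∀ g : evenAut, k * (g : GraphAut) = g * k := fun g => by
    have h : (graphConj k g : GraphAut) = g := by rw [hk]; rfl
    rwa [graphConj_apply, mul_inv_eq_iff_eq_mul] at h
  have happly : ∀ (g : evenAut) (x : Vert), k (g • x) = g • k x := fun g x =>
    congrArg (fun f : GraphAut => f x) (hcomm g)
  have hnone : k (none : Vert) = none := eq_none_of_H0_fixed fun h => by
    show (h : evenAut) • k none = k none
    rw [← happly, show (h : evenAut) • (none : Vert) = none from h.2]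
  refine RelIso.ext fun x => ?_
  obtain ⟨g, rfl⟩ := MulAction.exists_smul_eq evenAut (none : Vert) x
  rw [happly, hnone]
  rfl

theorem graphConj_surjective : Function.Surjective graphConj := by
  intro φ
  obtain ⟨v, hv⟩ := exists_fixed_vertex (L := H0.map φ.toMonoidHom)
    ((H0.equivMapOfInjective φ.toMonoidHom φ.injective).symm.trans stabM22)
  obtain ⟨h, hh⟩ := MulAction.exists_smul_eq evenAut (none : Vert) v
  set φ' : MulAut evenAut := MulAut.conj h⁻¹ * φ with hφ'
  have hle : H0.map φ'.toMonoidHom ≤ H0 := by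
    rintro _ ⟨g, hg, rfl⟩
    show (φ' g) • (none : Vert) = none
    rw [hφ', MulAut.mul_apply, MulAut.conj_apply, inv_inv, mul_smul, mul_smul, hh,
      show φ g • v = v from hv (φ g) ⟨g, hg, rfl⟩, ← hh, inv_smul_smul]
  have heq : H0.map φ'.toMonoidHom = H0 := Subgroup.eq_of_le_of_card_ge hle
    (Nat.card_congr (H0.equivMapOfInjective φ'.toMonoidHom φ'.injective).toEquiv).le
  obtain ⟨k, hk⟩ := exists_graphAut φ' heq
  refine ⟨(h : GraphAut) * k, MulEquiv.ext fun g => Subtype.ext ?_⟩
  have e := hk g
  rw [hφ', MulAut.mul_apply, MulAut.conj_apply] at e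
  simp only [Subgroup.coe_mul, InvMemClass.coe_inv, inv_inv] at e
  rw [graphConj_apply, show ((h : GraphAut) * k) * (g : GraphAut) * ((h : GraphAut) * k)⁻¹ =
    (h : GraphAut) * (k * g * k⁻¹) * (h : GraphAut)⁻¹ by group, ← e]
  group

/-- The outer automorphism group has order two. -/
theorem card_out_evenAut : Nat.card (Cfsg.Out evenAut) = 2 := by
  have hInn : Cfsg.Inn evenAut =
      (evenAut : Subgroup GraphAut).map (graphConj : GraphAut →* MulAut evenAut) := by
    ext φ
    constructor
    · rintro ⟨g, rfl⟩
      exact ⟨g, g.2, MulEquiv.ext fun x => Subtype.ext (graphConj_apply _ x)⟩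
    · rintro ⟨k, hk, rfl⟩
      exact ⟨⟨k, hk⟩, MulEquiv.ext fun x => Subtype.ext (graphConj_apply k x).symm⟩
  rw [← Subgroup.index_eq_card, hInn]
  have e := MulEquiv.ofBijective graphConj ⟨graphConj_injective, graphConj_surjective⟩
  have hmap := Subgroup.index_map_equiv (evenAut : Subgroup GraphAut)
    (MulEquiv.ofBijective graphConj ⟨graphConj_injective, graphConj_surjective⟩)
  refine Eq.trans ?_ (hmap.trans ?_)
  · rfl
  · have h := Subgroup.index_ker signHom
    rw [MonoidHom.range_eq_top.2 signHom_surjective, Subgroup.card_top,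
      Nat.card_eq_fintype_card (α := ℤˣ), Fintype.card_units_int] at h
    exact h

/-- Isomorphic groups have equally many outer automorphisms. -/
theorem card_out_congr {A B : Type*} [Group A] [Group B] (e : A ≃* B) :
    Nat.card (Cfsg.Out A) = Nat.card (Cfsg.Out B) := by
  rw [← Subgroup.index_eq_card, ← Subgroup.index_eq_card]
  have hmap : (Cfsg.Inn A).map ((MulAut.congr e : MulAut A ≃* MulAut B) : MulAut A →* MulAut B) =
      Cfsg.Inn B := by
    ext φ
    constructor
    · rintro ⟨_, ⟨a, rfl⟩, rfl⟩
      exact ⟨e a, MulEquiv.ext fun x => by simp [MulAut.congr]⟩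
    · rintro ⟨b, rfl⟩
      exact ⟨MulAut.conj (e.symm b), ⟨_, rfl⟩, MulEquiv.ext fun x => by simp [MulAut.congr]⟩
  rw [← hmap, Subgroup.index_map_equiv]

end CfsgLib.HSOut
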