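import Cfsg.Agent.HSGraph.Simple
import Cfsg.Agent.M24Orbits.SevenFix
import Cfsg.Agent.S1606
import Cfsg.Agent.DesignUnique.Large

/-!
A subgroup of the even automorphisms of the standard graph that is isomorphic to the vertex
stabiliser fixes a vertex.
-/

set_option autoImplicit false

open scoped Pointwise

namespace CfsgLib.HSOut

open Cfsg CfsgLib.Golay CfsgLib.Mathieu CfsgLib.DesignUnique CfsgLib.HSGraph

instance finite_graphAut : Finite (stdGraph ≃g stdGraph) := HSGraph.finite_aut stdGraph

/-- The vertices. -/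
abbrev Vert := Option (Pt22 ⊕ std22)

/-- The pointwise stabiliser of the two extra points. -/
abbrev M22s : Subgroup (Equiv.Perm GolayPt) := fixPt (fixPt M24 (none : GolayPt)) (some 0)

/-- The vertex stabiliser. -/
noncomputable abbrev H0 : Subgroup evenAut := MulAction.stabilizer evenAut (none : Vert)

/-- The vertex stabiliser as the two-point stabiliser. -/
noncomputable def stabM22 : H0 ≃* M22s :=
  (MulEquiv.ofBijective innerToEven innerToEven_bijective).symm.trans innerEquiv

theorem card_H0 : Nat.card H0 = 443520 := by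
  rw [Nat.card_congr stabM22.toEquiv, card_fixPair (by simp)]

theorem innerEquiv_apply (σ : innerPart) :
    (innerEquiv σ : Equiv.Perm GolayPt) = (autEquiv22 σ.1 : Equiv.Perm GolayPt) := by
  obtain ⟨g, hg⟩ := innerEquiv.symm.surjective σ
  rw [← hg, MulEquiv.apply_symm_apply]
  show (g : Equiv.Perm GolayPt) = (autEquiv22 (autEquiv22.symm _) : Equiv.Perm GolayPt)
  rw [MulEquiv.apply_symm_apply]
  rfl

theorem restr_autEquiv22 (σ : setSystemAut std22) : restr (autEquiv22 σ) = (σ : Equiv.Perm Pt22) :=
  congrArg Subtype.val (autEquiv22.symm_apply_apply σ)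

theorem card_vert : Fintype.card Pt22 = 22 ∧ Nat.card Vert = 100 :=
  ⟨by simp, card_vertices_std⟩

theorem pow_smul_eq {G α : Type*} [Monoid G] [MulAction G α] {g : G} {v : α} (h : g • v = v) (n : ℕ) :
    g ^ n • v = v := by
  induction n with
  | zero => simp
  | succ n ih => rw [pow_succ, mul_smul, h, ih]

/-- An element of order eleven fixing the extra vertex fixes nothing else. -/
theorem fixed_eq_none {f : H0} (hf : orderOf f = 11) {y : Vert}
    (hy : (f : evenAut) • y = y) : y = none := by
  obtain ⟨σ, rfl⟩ := innerToEven_bijective.2 f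
  have hσ : orderOf σ = 11 := by
    rw [← hf, orderOf_injective innerToEven innerToEven_bijective.1]
  set g : Equiv.Perm GolayPt := (innerEquiv σ : Equiv.Perm GolayPt) with hg
  have hgM : g ∈ M24 := (innerEquiv σ).2.1.1
  have hgord : orderOf g = 11 := by
    rw [hg, Subgroup.orderOf_coe, ← hσ, MulEquiv.orderOf_eq]
  have h2 := fixedPts_eleven hgM hgord
  have hnofix : ∀ a : Pt22, (σ.1 : Equiv.Perm Pt22) a ≠ a := by
    intro a ha
    have h := restr_spec (autEquiv22 σ.1) a
    rw [restr_autEquiv22, ha, ← innerEquiv_apply, ← hg] at h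
    have hsub : ({none, some 0, iota22 (some (some a))} : Finset GolayPt) ⊆ fixedPts g := by
      intro p hp
      simp only [Finset.mem_insert, Finset.mem_singleton] at hp
      rcases hp with rfl | rfl | rfl
      · exact mem_fixedPts.2 (innerEquiv σ).2.1.2
      · exact mem_fixedPts.2 (innerEquiv σ).2.2
      · exact mem_fixedPts.2 h
    have h3 := Finset.card_le_card hsub
    rw [h2, Finset.card_eq_three.2 ⟨_, _, _, by simp, by simp [iota22], by simp [iota22, Ne.symm a.2], rfl⟩]
      at h3
    omega
  rcases y with _ | a | b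
  · rfl
  · refine absurd ?_ (hnofix a)
    have : (some (Sum.inl ((σ.1 : Equiv.Perm Pt22) a)) : Vert) = some (Sum.inl a) := hy
    simpa using this
  · exfalso
    have hb : blockPerm σ.1 b = b := by
      have : (some (Sum.inr (blockPerm σ.1 b)) : Vert) = some (Sum.inr b) := hy
      simpa using this
    have hbs : (σ.1 : Equiv.Perm Pt22) • (b : Finset Pt22) = b := congrArg Subtype.val hb
    have hmem : ∀ x, (σ.1 : Equiv.Perm Pt22) x ∈ (b : Finset Pt22) ↔ x ∈ (b : Finset Pt22) := by
      intro x
      conv_lhs => rw [← hbs]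
      rw [← Equiv.Perm.smul_def, Finset.smul_mem_smul_finset_iff]
    let s : Equiv.Perm (b : Finset Pt22) := (σ.1 : Equiv.Perm Pt22).subtypePerm hmem
    haveI : Fact (Nat.Prime 11) := ⟨by norm_num⟩
    have hs : s ^ (11 ^ 1) = 1 := by
      ext x
      have e : ((σ.1 : Equiv.Perm Pt22)) ^ 11 = 1 := by
        have := congrArg (fun t : innerPart => (t.1 : Equiv.Perm Pt22))
          (hσ ▸ pow_orderOf_eq_one σ : σ ^ 11 = 1)
        simpa using this
      simp [s, Equiv.Perm.subtypePerm_pow, e]
    have h6 : (b : Finset Pt22).card = 6 := std22_steiner.1 _ b.2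
    obtain ⟨x, hx⟩ := Equiv.Perm.exists_fixed_point_of_prime (p := 11) (n := 1)
      (by rw [Fintype.card_coe, h6]; norm_num) hs
    exact hnofix x.1 (congrArg Subtype.val hx)

/-- An element of order eleven fixes exactly one vertex. -/
theorem fixed_unique {g : evenAut} (hg : orderOf g = 11) {v y : Vert} (hv : g • v = v)
    (hy : g • y = y) : y = v := by
  obtain ⟨h, rfl⟩ := MulAction.exists_smul_eq evenAut (none : Vert) v
  have hmem : h⁻¹ * g * h ∈ H0 := by
    rw [MulAction.mem_stabilizer_iff, mul_smul, mul_smul, hv, inv_smul_smul]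
  have hord : orderOf (⟨_, hmem⟩ : H0) = 11 := by
    rw [← Subgroup.orderOf_coe]
    show orderOf (h⁻¹ * g * h) = 11
    rw [show h⁻¹ * g * h = (MulAut.conj h⁻¹) g by simp, MulEquiv.orderOf_eq, hg]
  have h1 := fixed_eq_none hord (y := h⁻¹ • y) (by
    show (h⁻¹ * g * h) • (h⁻¹ • y) = h⁻¹ • y
    rw [mul_smul, mul_smul, smul_inv_smul, hy])
  rw [← h1, smul_inv_smul]

theorem orbit_size_cases : ∀ d < 101, d % 11 = 1 → 443520 % d = 0 →
    d = 1 ∨ d = 12 ∨ d = 45 ∨ d = 56 := by decide +kernel

theorem eleven_split : ∀ N < 221, 220 % N = 0 → ∀ n < 9857, N * n = 9856 → n % 11 ≠ 1 := by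
  intro N hN h n hn e hmod
  have hdiv : n = 9856 / N := by
    rw [← e, Nat.mul_div_cancel_left]
    rcases Nat.eq_zero_or_pos N with rfl | h0
    · simp at e
    · exact h0
  have key : ∀ N < 221, 220 % N = 0 → N * (9856 / N) = 9856 → 9856 / N % 11 ≠ 1 := by decide +kernel
  exact key N hN h (hdiv ▸ e) (hdiv ▸ hmod)

/-- The two-point stabiliser has no subgroup of order 36960, 9856 or 7920. -/
theorem no_small_index {K : Subgroup (Equiv.Perm GolayPt)} (hK : K ≤ M22s) :
    Nat.card K ≠ 36960 ∧ Nat.card K ≠ 9856 ∧ Nat.card K ≠ 7920 := by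
  refine ⟨fun hc => ?_, fun hc => ?_, fun hc => ?_⟩
  · obtain ⟨N, hN, -, hmod⟩ := CfsgLib.M24Orbits.sylow_seven_count (by simp) hK
      (by rw [hc]; norm_num)
    rcases hN with rfl | rfl <;> rw [hc] at hmod <;> norm_num at hmod
  · haveI : Fact (Nat.Prime 11) := ⟨by norm_num⟩
    obtain ⟨c, hord⟩ := exists_prime_orderOf_dvd_card' (G := K) 11 (by rw [hc]; norm_num)
    have hfac : (Nat.card K).factorization 11 = 1 := by
      rw [hc, show (9856 : ℕ) = 11 * 896 by norm_num, Nat.factorization_mul (by norm_num)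
        (by norm_num), Finsupp.add_apply, Nat.Prime.factorization_self (by norm_num),
        Nat.factorization_eq_zero_of_not_dvd (by norm_num)]
    obtain ⟨n, hdvd, hmul, hmod⟩ := Cfsg.Agent.S1606.card_normalizer_eleven (by simp) hK hfac hord
    rw [hc] at hmul
    set N := Nat.card (Subgroup.normalizer ((Subgroup.zpowers c : Subgroup K) : Set K))
    have hN0 : 0 < N := Nat.card_pos
    refine eleven_split N (Nat.lt_succ_of_le (Nat.le_of_dvd (by norm_num) hdvd))
      (Nat.mod_eq_zero_of_dvd hdvd) n ?_ hmul hmod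
    nlinarith
  · obtain ⟨g, hg, hmap⟩ := exists_map_five_fun
      (x := ![(none : GolayPt), some 0, i2p 2, i2p 3, i2p 4])
      (y := ![i2p 0, i2p 1, i2p 2, i2p 3, i2p 4]) (by decide) (by decide)
    refine (Cfsg.Agent.S1606.no_subgroup (K := K.map (MulAut.conj g).toMonoidHom) ?_).1 ?_
    · rintro _ ⟨k, hk, rfl⟩
      have hk' := hK hk
      exact ⟨⟨(conj_mem_M24_iff hg).2 hk'.1.1, (conj_fix_iff g k none (i2p 0) (hmap 0)).2 hk'.1.2⟩,
        (conj_fix_iff g k (some 0) (i2p 1) (hmap 1)).2 hk'.2⟩
    · rw [Subgroup.card_map_of_injective (MulAut.conj g).injective, hc]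

/-- A subgroup of the even automorphisms isomorphic to the vertex stabiliser fixes a vertex. -/
theorem exists_fixed_vertex {L : Subgroup evenAut} (e : L ≃* M22s) :
    ∃ v : Vert, ∀ g ∈ L, g • v = v := by
  haveI : Fact (Nat.Prime 11) := ⟨by norm_num⟩
  have hL : Nat.card L = 443520 := by rw [Nat.card_congr e.toEquiv, card_fixPair (by simp)]
  obtain ⟨c, hc⟩ := exists_prime_orderOf_dvd_card' (G := L) 11 (by rw [hL]; norm_num)
  have hce : orderOf (c : evenAut) = 11 := by rw [Subgroup.orderOf_coe, hc]
  let π : Equiv.Perm Vert := MulAction.toPerm (c : evenAut)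
  have hπ : π ^ (11 ^ 1) = 1 := by
    rw [pow_one]
    show (MulAction.toPermHom evenAut Vert (c : evenAut)) ^ 11 = 1
    rw [← map_pow, ← hce, pow_orderOf_eq_one, map_one]
  letI : Fintype std22 := Fintype.ofFinite _
  have h100 : Fintype.card Vert = 100 := by rw [← Nat.card_eq_fintype_card, card_vertices_std]
  obtain ⟨v, hv⟩ := Equiv.Perm.exists_fixed_point_of_prime (p := 11) (n := 1)
    (by rw [h100]; norm_num) hπ
  set O := MulAction.orbit L v with hO
  have hsum : Nat.card O * Nat.card (MulAction.stabilizer L v) = 443520 := by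
    rw [hO, Nat.card_congr (MulAction.orbitEquivQuotientStabilizer L v), ← hL, mul_comm,
      ← Subgroup.index_eq_card, Subgroup.card_mul_index]
  let cO : Equiv.Perm O := MulAction.toPerm c
  have hcO : cO ^ (11 ^ 1) = 1 := by
    rw [pow_one]
    show (MulAction.toPermHom L O c) ^ 11 = 1
    rw [← map_pow, ← hc, pow_orderOf_eq_one, map_one]
  haveI : Fintype O := Fintype.ofFinite _
  classical
  have hmod := Equiv.Perm.card_compl_support_modEq (σ := cO) hcO
  have hone : cO.supportᶜ.card = 1 := by
    refine Finset.card_eq_one.2 ⟨⟨v, MulAction.mem_orbit_self v⟩, ?_⟩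
    ext y
    rw [Finset.mem_compl, Equiv.Perm.mem_support, not_not, Finset.mem_singleton]
    refine ⟨fun h => Subtype.ext (fixed_unique hce hv (congrArg Subtype.val h)), ?_⟩
    rintro rfl
    exact Subtype.ext hv
  rw [hone] at hmod
  have hd := Nat.card_eq_fintype_card (α := O)
  have hd100 : Nat.card O ≤ 100 := by
    rw [← card_vertices_std]
    exact Nat.card_le_card_of_injective _ Subtype.val_injective
  have hdvd : Nat.card O ∣ 443520 := ⟨_, hsum.symm⟩
  have hmod' : Nat.card O % 11 = 1 := by rw [hd]; exact hmod.symm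
  set K := ((MulAction.stabilizer L v).map e.toMonoidHom).map M22s.subtype with hK
  have hKle : K ≤ M22s := Subgroup.map_subtype_le _
  have hKcard : Nat.card K = Nat.card (MulAction.stabilizer L v) := by
    rw [hK, Subgroup.card_map_of_injective M22s.subtype_injective,
      Subgroup.card_map_of_injective (f := e.toMonoidHom) e.injective]
  obtain ⟨k1, k2, k3⟩ := no_small_index hKle
  rw [hKcard] at k1 k2 k3
  rcases orbit_size_cases _ (by omega) hmod' (Nat.mod_eq_zero_of_dvd hdvd) with h | h | h | h
  · refine ⟨v, fun g hg => ?_⟩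
    have : (⟨v, MulAction.mem_orbit_self v⟩ : O) = ⟨g • v, ⟨⟨g, hg⟩, rfl⟩⟩ := by
      haveI := (Nat.card_eq_one_iff_unique.1 h).1
      exact Subsingleton.elim _ _
    exact (congrArg Subtype.val this).symm
  all_goals rw [h] at hsum
  · exact absurd (by omega) k1
  · exact absurd (by omega) k2
  · exact absurd (by omega) k3

end CfsgLib.HSOut
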